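import Cfsg.Agent.Lib.InvChar.CosetCert

/-! Coset enumeration certificate J2C for a presented sporadic group. -/

set_option autoImplicit false
set_option maxRecDepth 100000

namespace CfsgLib.InvChar.Coset.J2C

/-- facts -/
noncomputable def facts : Tr := (.leaf 0x13200014000140000140001310001300012200012000110000110000e200011000102000100000f10000f0000c20000f0000d00000d0000b10000b0000a20000a0000800000a00009000009000071000070000320000300002200002000001000000000000000000014100012000130000100001200000e0001110000d0001010000c0000f00000b0000e1000090000d2000080000c0000070000b2000060000a100006000092000050000810000500007200004000060000040000500000300004100002000031000010000200000100001200000)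
/-- justifications -/
noncomputable def just : Tr := (.leaf 0x940004c0004400034000200001c00068000240001400018000600002c0003c000480e0600200c00013000110000d000190000d00011000130000c004018000480003c0002c000600002c0003c00049000300100600011000210002200021000114001000401000040000300001c000100000800004000580000c0001400024000680003000074000400b0600100d000100000c00007000080000d400140040100003c000780007c000780003d00050010040000e0000a0000500003000010000200017000020000100003000050000a0001c0000e00418004034000380002800014000180002d00040010040000c0001a0001b0001a0000c0001000401000028000240006c00024000280005001004000090000500003000010000000014000150001400015000000000200004000070001a0101800403400024000140000c0000400008000100001c0003001006000080000400017000040000800010004010000180000c000580000c00018000500100400002000000001500000000024001400401000004000000005000000000050004001004800040000020000000000)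
/-- relators -/
def rels : List (List ℕ) := [[0, 0], [1, 1], [2, 2], [0, 1, 0, 1, 0, 1, 0, 1], [0, 2, 0, 2, 0, 2], [1, 2, 1, 2, 1, 2], [0, 1, 0, 1, 2, 0, 1, 0, 1, 2, 1, 0, 1, 0, 2]]
/-- subgroup words -/
def subs : List (List ℕ) := [[0], [1]]
/-- the letters, as letters of the whole group -/
def emb : List ℕ := [0, 1, 2]
/-- certificate -/
noncomputable def cert : Cert := ⟨3, 39, 20, facts, just, rels, subs⟩
/-- table -/
noncomputable def permTable : Tr := (.leaf 0x13000120001400014000130001000012000140000e0000e0000d00011000100000c000130000c0000f0000b00011000090001200008000110000d0000f0001000007000060000b0000f0000a0000600008000050000e000090000d000050000a00004000070000c0000b0000a00004000090000800003000070000200006000030000100005000020000400001000000000300002000010000000000)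
/-- node of a coset -/
noncomputable def live : Tr := (.leaf 0x14000130001200011000100000f0000e0000d0000c0000b0000a00009000080000700006000050000400003000020000100000)
/-- fact of an entry -/
noncomputable def fin : Tr := (.leaf 0x260001300025000260002400012000230001300011000210001000022000200000f000120001e0001f0000e000210000d000110000c000100001d0001e0000f0000b0000a0001c0000e0001b000090001a000080000d000190000c000070001a00006000180000b0000a0000900005000080000700004000060000300005000170000200004000160000300001000000000200001000000001500014)
/-- table -/
noncomputable def table : Table := ⟨21, 3, permTable⟩

end CfsgLib.InvChar.Coset.J2C
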